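import Cfsg.Agent.Lib.Helper12.TCG.M11x11.TabT
import Cfsg.Agent.Lib.Helper12.TC.Fn.LowerParts

/-! checks for the lower bound of the order, part 0 (generated, helper12) -/

set_option autoImplicit false
set_option maxRecDepth 100000

namespace Cfsg.Agent.Lib.Helper12.TCG.M11x11

open Cfsg.Agent.Lib.Helper12.TC Cfsg.Agent.Lib.Helper12.TCG

theorem hs8_0 : Fn.slpColK TT 8 [5, 7, 3, 3, 4, 4, 1, 2, 1, 2, 1, 1, 1, 2, 2, 2, 2, 0] 0 11 = true := by decide +kernel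

theorem hs9_0 : Fn.slpColK TT 9 [6, 8, 4, 4, 3, 1, 2, 2, 0, 2, 2, 0, 1, 0, 1, 1, 2] 0 11 = true := by decide +kernel

theorem hs10_0 : Fn.slpColK TT 10 [7, 6, 5, 3, 3, 2, 1, 1, 2, 0, 0, 2, 0, 2, 2, 0, 0] 0 11 = true := by decide +kernel

theorem hs5_0 : Fn.slpColK TT 5 [3, 3, 4, 4, 0, 1, 0, 0, 0, 2, 2, 0, 1, 2, 0, 1] 0 11 = true := by decide +kernel

theorem hs7_0 : Fn.slpColK TT 7 [4, 3, 4, 2, 1, 2, 2, 2, 1, 2, 2, 0, 1, 1, 2] 0 11 = true := by decide +kernel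

theorem hs4_0 : Fn.slpColK TT 4 [3, 3, 1, 0, 1, 1, 2, 0, 2, 1, 1, 2, 0, 2] 0 11 = true := by decide +kernel

theorem hs6_0 : Fn.slpColK TT 6 [5, 5, 1, 1, 0, 1, 2, 2, 0, 0, 2, 2, 1, 0] 0 11 = true := by decide +kernel

theorem hs3_0 : Fn.slpColK TT 3 [0, 2, 0, 1, 0, 1, 1, 1, 2, 1, 0, 0] 0 11 = true := by decide +kernel

theorem hgens2 : Fn.gensK TT 11 [1, 0] [6, 7, 8, 9, 10] = true := by decide +kernel

theorem hgens1 : Fn.gensK TT 11 [0] [4, 5, 6, 7, 8, 9, 10] = true := by decide +kernel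

/-- a part of a tree -/
def tree0_0 : List (ℕ × ℕ × ℕ) :=
  [(8, 0, 3), (4, 8, 3), (1, 8, 4), (9, 8, 5), (7, 8, 6), (5, 8, 7), (6, 8, 10), (3, 4, 5), (2, 4, 7), (10, 4, 8)]

theorem ht0_0 : Fn.treePartK TT [3, 4, 5, 6, 7, 8, 9, 10] tree0_0 1
    (fun s => Nat.beq s 2047) = true := by decide +kernel

theorem hgens0 : Fn.gensK TT 11 [] [3, 4, 5, 6, 7, 8, 9, 10] = true := by decide +kernel

theorem hgens3 : Fn.gensK TT 11 [2, 1, 0] [9, 10] = true := by decide +kernel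

/-- a part of a tree -/
def tree1_0 : List (ℕ × ℕ × ℕ) :=
  [(2, 1, 4), (10, 1, 5), (4, 2, 4), (9, 2, 6), (3, 2, 8), (6, 10, 4), (5, 4, 6), (8, 4, 10), (7, 9, 5)]

theorem ht1_0 : Fn.treePartK TT [4, 5, 6, 7, 8, 9, 10] tree1_0 2
    (fun s => Nat.beq s 2046) = true := by decide +kernel

/-- a part of a tree -/
def tree2_0 : List (ℕ × ℕ × ℕ) :=
  [(9, 2, 6), (4, 2, 7), (3, 2, 8), (7, 9, 7), (5, 9, 8), (10, 9, 9), (8, 4, 10), (6, 5, 9)]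

theorem ht2_0 : Fn.treePartK TT [6, 7, 8, 9, 10] tree2_0 4
    (fun s => Nat.beq s 2044) = true := by decide +kernel

/-- a part of a tree -/
def tree3_0 : List (ℕ × ℕ × ℕ) :=
  [(8, 3, 9), (7, 3, 10), (9, 8, 9), (6, 8, 10), (4, 7, 9), (10, 9, 9), (5, 9, 10)]

theorem ht3_0 : Fn.treePartK TT [9, 10] tree3_0 8
    (fun s => Nat.beq s 2040) = true := by decide +kernel

end Cfsg.Agent.Lib.Helper12.TCG.M11x11
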