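import Cfsg.Agent.Lib.Helper12.TCG.M11x11.Rho
import Cfsg.Agent.Lib.Helper12.TCG.M11x11.Lev0
import Cfsg.Agent.Lib.Helper12.TC.Fn.LowerBase

/-! the lower bound for the order for M11x11 (generated, helper12) -/

set_option autoImplicit false
set_option maxRecDepth 100000

namespace Cfsg.Agent.Lib.Helper12.TCG.M11x11

open Cfsg.Agent.Lib.Helper12.TC Cfsg.Agent.Lib.Helper12.TCG Cfsg.Agent.Lib.Helper12.TCG.M11Pres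

/-- the words of the further columns -/
def prog : List (List ℕ) :=
  [[0, 2, 0, 1, 0, 1, 1, 1, 2, 1, 0, 0],
   [3, 3, 1, 0, 1, 1, 2, 0, 2, 1, 1, 2, 0, 2],
   [3, 3, 4, 4, 0, 1, 0, 0, 0, 2, 2, 0, 1, 2, 0, 1],
   [5, 5, 1, 1, 0, 1, 2, 2, 0, 0, 2, 2, 1, 0],
   [4, 3, 4, 2, 1, 2, 2, 2, 1, 2, 2, 0, 1, 1, 2],
   [5, 7, 3, 3, 4, 4, 1, 2, 1, 2, 1, 1, 1, 2, 2, 2, 2, 0],
   [6, 8, 4, 4, 3, 1, 2, 2, 0, 2, 2, 0, 1, 0, 1, 1, 2],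
   [7, 6, 5, 3, 3, 2, 1, 1, 2, 0, 0, 2, 0, 2, 2, 0, 0]]

theorem hcol3 : Fn.ColOK TT 3 [0, 2, 0, 1, 0, 1, 1, 1, 2, 1, 0, 0] cN :=
  Fn.colOK_step hs3_0 rfl
    (Fn.colOK_start TT 3 [0, 2, 0, 1, 0, 1, 1, 1, 2, 1, 0, 0])

theorem hstep3 : Fn.slpStepK TT cN 3 [0, 2, 0, 1, 0, 1, 1, 1, 2, 1, 0, 0] = true :=
  Fn.slpStepK_of_colOK (by decide) hcol3

theorem hcol4 : Fn.ColOK TT 4 [3, 3, 1, 0, 1, 1, 2, 0, 2, 1, 1, 2, 0, 2] cN :=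
  Fn.colOK_step hs4_0 rfl
    (Fn.colOK_start TT 4 [3, 3, 1, 0, 1, 1, 2, 0, 2, 1, 1, 2, 0, 2])

theorem hstep4 : Fn.slpStepK TT cN 4 [3, 3, 1, 0, 1, 1, 2, 0, 2, 1, 1, 2, 0, 2] = true :=
  Fn.slpStepK_of_colOK (by decide) hcol4

theorem hcol5 : Fn.ColOK TT 5 [3, 3, 4, 4, 0, 1, 0, 0, 0, 2, 2, 0, 1, 2, 0, 1] cN :=
  Fn.colOK_step hs5_0 rfl
    (Fn.colOK_start TT 5 [3, 3, 4, 4, 0, 1, 0, 0, 0, 2, 2, 0, 1, 2, 0, 1])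

theorem hstep5 : Fn.slpStepK TT cN 5 [3, 3, 4, 4, 0, 1, 0, 0, 0, 2, 2, 0, 1, 2, 0, 1] = true :=
  Fn.slpStepK_of_colOK (by decide) hcol5

theorem hcol6 : Fn.ColOK TT 6 [5, 5, 1, 1, 0, 1, 2, 2, 0, 0, 2, 2, 1, 0] cN :=
  Fn.colOK_step hs6_0 rfl
    (Fn.colOK_start TT 6 [5, 5, 1, 1, 0, 1, 2, 2, 0, 0, 2, 2, 1, 0])

theorem hstep6 : Fn.slpStepK TT cN 6 [5, 5, 1, 1, 0, 1, 2, 2, 0, 0, 2, 2, 1, 0] = true :=
  Fn.slpStepK_of_colOK (by decide) hcol6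

theorem hcol7 : Fn.ColOK TT 7 [4, 3, 4, 2, 1, 2, 2, 2, 1, 2, 2, 0, 1, 1, 2] cN :=
  Fn.colOK_step hs7_0 rfl
    (Fn.colOK_start TT 7 [4, 3, 4, 2, 1, 2, 2, 2, 1, 2, 2, 0, 1, 1, 2])

theorem hstep7 : Fn.slpStepK TT cN 7 [4, 3, 4, 2, 1, 2, 2, 2, 1, 2, 2, 0, 1, 1, 2] = true :=
  Fn.slpStepK_of_colOK (by decide) hcol7

theorem hcol8 : Fn.ColOK TT 8 [5, 7, 3, 3, 4, 4, 1, 2, 1, 2, 1, 1, 1, 2, 2, 2, 2, 0] cN :=
  Fn.colOK_step hs8_0 rfl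
    (Fn.colOK_start TT 8 [5, 7, 3, 3, 4, 4, 1, 2, 1, 2, 1, 1, 1, 2, 2, 2, 2, 0])

theorem hstep8 : Fn.slpStepK TT cN 8 [5, 7, 3, 3, 4, 4, 1, 2, 1, 2, 1, 1, 1, 2, 2, 2, 2, 0] = true :=
  Fn.slpStepK_of_colOK (by decide) hcol8

theorem hcol9 : Fn.ColOK TT 9 [6, 8, 4, 4, 3, 1, 2, 2, 0, 2, 2, 0, 1, 0, 1, 1, 2] cN :=
  Fn.colOK_step hs9_0 rfl
    (Fn.colOK_start TT 9 [6, 8, 4, 4, 3, 1, 2, 2, 0, 2, 2, 0, 1, 0, 1, 1, 2])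

theorem hstep9 : Fn.slpStepK TT cN 9 [6, 8, 4, 4, 3, 1, 2, 2, 0, 2, 2, 0, 1, 0, 1, 1, 2] = true :=
  Fn.slpStepK_of_colOK (by decide) hcol9

theorem hcol10 : Fn.ColOK TT 10 [7, 6, 5, 3, 3, 2, 1, 1, 2, 0, 0, 2, 0, 2, 2, 0, 0] cN :=
  Fn.colOK_step hs10_0 rfl
    (Fn.colOK_start TT 10 [7, 6, 5, 3, 3, 2, 1, 1, 2, 0, 0, 2, 0, 2, 2, 0, 0])

theorem hstep10 : Fn.slpStepK TT cN 10 [7, 6, 5, 3, 3, 2, 1, 1, 2, 0, 0, 2, 0, 2, 2, 0, 0] = true :=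
  Fn.slpStepK_of_colOK (by decide) hcol10

theorem hslp : Fn.slpAllK TT cN 3 prog = true :=
  Fn.slpAllK_cons hstep3
    (Fn.slpAllK_cons hstep4
    (Fn.slpAllK_cons hstep5
    (Fn.slpAllK_cons hstep6
    (Fn.slpAllK_cons hstep7
    (Fn.slpAllK_cons hstep8
    (Fn.slpAllK_cons hstep9
    (Fn.slpAllK_cons hstep10
    (Fn.slpAllK_nil TT cN 11))))))))

theorem hslpl : Fn.slpLettersK 3 prog = true := by decide

/-- the generators and the further elements -/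
noncomputable def uu : ℕ → M11Pres.Grp :=
  Fn.slpRun prog 3 M11Pres.v

theorem rho_uu : ∀ x < 11, ∀ i : Fin cN, ((rho (uu x) i : Fin cN) : ℕ) = TT x i :=
  (Fn.slp_sound rho TT prog 3 _ rho_gen hslp).1

theorem uu_gen : ∀ x < 3, uu x = M11Pres.v x :=
  (Fn.slp_sound rho TT prog 3 _ rho_gen hslp).2.1

theorem uu_spec : ∀ (k : ℕ) (w : List ℕ), prog[k]? = some w → uu (3 + k) = wprod uu w :=
  Fn.slpRun_spec prog 3 _ hslpl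

theorem htree0 : Fn.TreeOK hN0 rho uu 11 [3, 4, 5, 6, 7, 8, 9, 10] 0 2047 11 :=
  Fn.treeOK_step hN0 rho TT uu 11 rho_uu ht0_0 rfl
    (Fn.treeOK_start hN0 rho uu 11 [3, 4, 5, 6, 7, 8, 9, 10] 0 (by decide))

theorem hlev0 : Fn.LevelOK hN0 rho [] 0 11 :=
  Fn.levelOK_of_tree hN0 rho TT uu 11 rho_uu (by decide) (by decide) hgens0 htree0

theorem htree1 : Fn.TreeOK hN0 rho uu 11 [4, 5, 6, 7, 8, 9, 10] 1 2046 10 :=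
  Fn.treeOK_step hN0 rho TT uu 11 rho_uu ht1_0 rfl
    (Fn.treeOK_start hN0 rho uu 11 [4, 5, 6, 7, 8, 9, 10] 1 (by decide))

theorem hlev1 : Fn.LevelOK hN0 rho [0] 1 10 :=
  Fn.levelOK_of_tree hN0 rho TT uu 11 rho_uu (by decide) (by decide) hgens1 htree1

theorem htree2 : Fn.TreeOK hN0 rho uu 11 [6, 7, 8, 9, 10] 2 2044 9 :=
  Fn.treeOK_step hN0 rho TT uu 11 rho_uu ht2_0 rfl
    (Fn.treeOK_start hN0 rho uu 11 [6, 7, 8, 9, 10] 2 (by decide))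

theorem hlev2 : Fn.LevelOK hN0 rho [1, 0] 2 9 :=
  Fn.levelOK_of_tree hN0 rho TT uu 11 rho_uu (by decide) (by decide) hgens2 htree2

theorem htree3 : Fn.TreeOK hN0 rho uu 11 [9, 10] 3 2040 8 :=
  Fn.treeOK_step hN0 rho TT uu 11 rho_uu ht3_0 rfl
    (Fn.treeOK_start hN0 rho uu 11 [9, 10] 3 (by decide))

theorem hlev3 : Fn.LevelOK hN0 rho [2, 1, 0] 3 8 :=
  Fn.levelOK_of_tree hN0 rho TT uu 11 rho_uu (by decide) (by decide) hgens3 htree3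

/-- the base points and the lower bounds for the lengths of the basic orbits -/
def levelsL : List (ℕ × ℕ) := [(0, 11), (1, 10), (2, 9), (3, 8)]

theorem hlevels : Fn.LevelsOK hN0 rho [] levelsL :=
  Fn.levelsOK_cons hN0 rho hlev0
    (Fn.levelsOK_cons hN0 rho hlev1
    (Fn.levelsOK_cons hN0 rho hlev2
    (Fn.levelsOK_cons hN0 rho hlev3
    (Fn.levelsOK_nil hN0 rho _))))

theorem levels_prod : (levelsL.map Prod.snd).prod = 7920 := by decide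

/-- the lower bound for the order, and the injectivity of the representation if it is attained -/
theorem lower [Finite M11Pres.Grp] :
    7920 ≤ Nat.card M11Pres.Grp ∧
    (Nat.card M11Pres.Grp ≤ 7920 → Function.Injective rho) := by
  have h := Fn.order_lower_parts hN0 rho levelsL hlevels
  rw [levels_prod] at h
  exact h

end Cfsg.Agent.Lib.Helper12.TCG.M11x11
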