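import Cfsg.Agent.Lib.Helper12.TCG.Parts

/-! certificate data for M11x11: the final table (generated, helper12) -/

set_option autoImplicit false
set_option maxRecDepth 100000

namespace Cfsg.Agent.Lib.Helper12.TCG.M11x11

open Cfsg.Agent.Lib.Helper12.TC Cfsg.Agent.Lib.Helper12.TCG

/-- a part of the final table -/
def fr0 : List ℕ := [281475181182976, 5017518047223720443913, 111270766867277994262541, 5902958173955803840514, 5312662310820539006977, 1475739912924863397891, 6788405548668585771020, 61095619996116367441924, 61685912516736664469514, 107433843906432365232143, 62866504172638280089611]

/-- the final table -/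
def finrecs : List ℕ := fr0

/-- the bitmap of the live labels -/
def LIVE : ℕ := 48671

/-- the bitmap of the labels of a part -/
def LIVE0 : ℕ := 48671

end Cfsg.Agent.Lib.Helper12.TCG.M11x11
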