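import Cfsg.Agent.Lib.Helper12.TCG.Parts

/-! certificate data for M11x11: the table of the permutation representation (generated, helper12) -/

set_option autoImplicit false
set_option maxRecDepth 100000

namespace Cfsg.Agent.Lib.Helper12.TCG.M11x11

open Cfsg.Agent.Lib.Helper12.TC Cfsg.Agent.Lib.Helper12.TCG

/-- the tree of the table -/
noncomputable def TR : Tr := .node 384 (.node 192 (.node 128 (.node 64 (.leaf 16069389637574839970820413134441073759540009685227546796359680) (.leaf 9641642058015270957645411352589353163221930852026240756350980)) (.leaf 4820827925242684635931524430464258276862107605452065135919105)) (.node 320 (.node 256 (.leaf 4820821795260521162619509655812089522403403037578086577078280) (.leaf 9641632863042025759524674698837179547464292382405561763758080)) (.leaf 3213886815999920134010904327747740338988181044754209969274880))) (.node 576 (.node 512 (.node 448 (.leaf 9641631330555253907641191482718795737952732830160918575841280) (.leaf 4820824860253064408578726449595287717723243682488254574100480)) (.leaf 3213883751008838406414574677323453966638727601250728049377280)) (.node 640 (.leaf 4820829457745533005825643590993824663593939308584378045562880) (.leaf 6427759839522434453980308045066244598375697648954278784532480)))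

/-- the table -/
noncomputable def TT : ℕ → ℕ → ℕ := tabT20 TR

/-- the number of points -/
def tN : ℕ := 11

end Cfsg.Agent.Lib.Helper12.TCG.M11x11
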